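import Groth.Agent.DRingLib.PerfTerms
import Groth.Agent.KZeroLib.DerivedEuler
import Groth.Prelude.Def_KZero

/-! The Euler characteristic of bounded complexes of finite projective modules. -/

set_option autoImplicit false
set_option backward.isDefEq.respectTransparency false
set_option backward.defeqAttrib.useBackward true
set_option linter.style.haveILetI false

universe u

open CategoryTheory CategoryTheory.Limits CategoryTheory.Pretriangulated
open scoped ZeroObject

attribute [local instance] HasDerivedCategory.standard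

namespace Groth.Agent.CohDer1.KPerf

open Groth.Agent.KZeroLib (sgn sgn_succ)
open Groth.Agent.DCat

variable {R : Type u} [CommRing R]

/-- Finite projective modules. -/
abbrev FP (R : Type u) [CommRing R] : ObjectProperty (ModuleCat.{u} R) :=
  fun M => Module.Finite R M ∧ Module.Projective R M

lemma fp_zero {M : ModuleCat.{u} R} (h : IsZero M) : FP R M := by
  haveI := ModuleCat.subsingleton_of_isZero h
  exact ⟨inferInstance, inferInstance⟩

instance isClosedUnderIsomorphisms_FP : (FP R).IsClosedUnderIsomorphisms :=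
  ⟨fun e h => finite_projective_of_iso e h⟩

instance containsZero_FP : (FP R).ContainsZero :=
  ⟨⟨0, isZero_zero _, fp_zero (isZero_zero _)⟩⟩

lemma fp_retract {X Y : ModuleCat.{u} R} (r : Retract X Y) (h : FP R Y) : FP R X := by
  haveI := h.1
  haveI := h.2
  have hr : ∀ x, r.r.hom (r.i.hom x) = x := fun x => ConcreteCategory.congr_hom r.retract x
  exact ⟨Module.Finite.of_surjective r.r.hom fun x => ⟨_, hr x⟩,
    Module.Projective.of_split r.i.hom r.r.hom (LinearMap.ext hr)⟩

lemma fp_biprod {X Y : ModuleCat.{u} R} (hX : FP R X) (hY : FP R Y) : FP R (X ⊞ Y) := by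
  haveI := hX.1
  haveI := hX.2
  haveI := hY.1
  haveI := hY.2
  exact finite_projective_of_iso (ModuleCat.biprodIsoProd X Y).symm ⟨inferInstance, inferInstance⟩

/-- The class of a module. -/
noncomputable abbrev cl (M : ModuleCat.{u} R) : KZero.K0sub (FP R) := KZero.clSub (FP R) M

lemma cl_biprod {X Y : ModuleCat.{u} R} (hX : FP R X) (hY : FP R Y) : cl (X ⊞ Y) = cl X + cl Y :=
  Resolution28.clSub_rel (Resolution28.biprod_ses X Y) hX (fp_biprod hX hY) hY

/-- Bounded complexes of finite projective modules. -/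
def BFP (E : DRing.Cx R) : Prop :=
  (∃ a b, DRing.VanishesOutside E a b) ∧ DRing.TermwiseFiniteProjective E

/-- The Euler characteristic of the terms. -/
noncomputable def chiC (E : DRing.Cx R) : KZero.K0sub (FP R) := ∑ᶠ i : ℤ, sgn i • cl (E.X i)

lemma support_chiC {E : DRing.Cx R} {a b : ℤ} (h : DRing.VanishesOutside E a b) :
    (Function.support fun i : ℤ => sgn i • cl (E.X i)) ⊆ Set.Icc a b := by
  intro i hi
  by_contra h'
  rw [Set.mem_Icc, not_and_or, not_le, not_le] at h'
  refine hi ?_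
  show sgn i • cl (E.X i) = 0
  rw [show cl (E.X i) = 0 from KZeroLib.clSub_isZero (h i h'), smul_zero]

lemma support_finite {E : DRing.Cx R} (h : BFP E) :
    (Function.support fun i : ℤ => sgn i • cl (E.X i)).Finite := by
  obtain ⟨a, b, h⟩ := h.1
  exact (Set.finite_Icc a b).subset (support_chiC h)

lemma chiC_eq_sum {E : DRing.Cx R} {a b : ℤ} (h : DRing.VanishesOutside E a b) :
    chiC E = (Finset.Icc a b).sum fun i => sgn i • cl (E.X i) :=
  finsum_eq_sum_of_support_subset _ (by rw [Finset.coe_Icc]; exact support_chiC h)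

lemma finsum_shift (u : ℤ → KZero.K0sub (FP R)) :
    ∑ᶠ i : ℤ, u (i + 1) = ∑ᶠ i : ℤ, u i :=
  finsum_comp_equiv (Equiv.addRight (1 : ℤ))

/-- Acyclic complexes have vanishing Euler characteristic. -/
lemma chiC_acyclic {E : DRing.Cx R} (h : BFP E) (hE : E.Acyclic) : chiC E = 0 := by
  obtain ⟨⟨a, b, hv⟩, hp⟩ := h
  let Z : ℤ → ModuleCat.{u} R := fun i => ModuleCat.of R (LinearMap.ker (E.d i (i + 1)).hom)
  let g : ∀ i, E.X i →ₗ[R] Z (i + 1) := fun i =>
    (E.d i (i + 1)).hom.codRestrict (LinearMap.ker (E.d (i + 1) (i + 1 + 1)).hom) fun x =>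
      ConcreteCategory.congr_hom (E.d_comp_d i (i + 1) (i + 1 + 1)) x
  have hg : ∀ i, Function.Surjective (g i) := by
    intro i y
    have hex := (E.exactAt_iff' i (i + 1) (i + 1 + 1) (by simp) (by simp)).1 (hE (i + 1))
    rw [ShortComplex.moduleCat_exact_iff] at hex
    obtain ⟨x, hx⟩ := hex y.1 y.2
    exact ⟨x, Subtype.ext hx⟩
  have hS : ∀ i, (ShortComplex.mk (ModuleCat.ofHom (LinearMap.ker (E.d i (i + 1)).hom).subtype : Z i ⟶ E.X i)
      (ModuleCat.ofHom (g i) : E.X i ⟶ Z (i + 1))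
      (ModuleCat.hom_ext (LinearMap.ext fun x => Subtype.ext x.2))).ShortExact := fun i =>
    { exact := (ShortComplex.moduleCat_exact_iff _).2 fun x hx =>
        ⟨⟨x, congrArg Subtype.val (show g i x = 0 from hx)⟩, rfl⟩
      mono_f := (ModuleCat.mono_iff_injective _).2 Subtype.val_injective
      epi_g := (ModuleCat.epi_iff_surjective _).2 (hg i) }
  have hz : ∀ i, i < a ∨ b < i → IsZero (Z i) := fun i hi => by
    haveI := ModuleCat.subsingleton_of_isZero (hv i hi)
    exact ModuleCat.isZero_of_subsingleton _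
  have hZ : ∀ i, FP R (Z i) := by
    suffices H : ∀ (n : ℕ) (i : ℤ), b + 1 ≤ i + n → FP R (Z i) from fun i => H (b + 1 - i).toNat i (by omega)
    intro n
    induction n with
    | zero => exact fun i hi => fp_zero (hz i (Or.inr (by omega)))
    | succ n ih =>
      intro i hi
      have h' : FP R (Z (i + 1)) := ih (i + 1) (by omega)
      haveI : Module.Projective R (Z (i + 1)) := h'.2
      haveI : CategoryTheory.Projective (Z (i + 1)) := (IsProjective.iff_projective (R := R) (Z (i + 1))).1 h'.2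
      let s := (hS i).splittingOfProjective
      exact fp_retract ⟨_, s.r, s.f_r⟩ (hp i)
  have e : ∀ i, sgn i • cl (E.X i) = sgn i • cl (Z i) - sgn (i + 1) • cl (Z (i + 1)) := fun i => by
    have h2 : cl (E.X i) = cl (Z i) + cl (Z (i + 1)) :=
      Resolution28.clSub_rel (hS i) (hZ i) (hp i) (hZ (i + 1))
    rw [h2, sgn_succ, smul_add, neg_smul, sub_neg_eq_add]
  have hu : (Function.support fun i => sgn i • cl (Z i)).Finite := by
    refine (Set.finite_Icc a b).subset fun i hi => ?_
    by_contra h'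
    rw [Set.mem_Icc, not_and_or, not_le, not_le] at h'
    refine hi ?_
    show sgn i • cl (Z i) = 0
    rw [show cl (Z i) = 0 from KZeroLib.clSub_isZero (hz i h'), smul_zero]
  have hu' : (Function.support fun i => sgn (i + 1) • cl (Z (i + 1))).Finite :=
    hu.preimage (f := fun i => i + 1) (fun a _ b _ h => add_right_cancel h)
  rw [chiC, finsum_congr e, finsum_sub_distrib hu hu', sub_eq_zero]
  exact (finsum_shift fun i => sgn i • cl (Z i)).symm

lemma vanishes_cone {E F : DRing.Cx R} (f : E ⟶ F) {a b c d : ℤ} (hE : DRing.VanishesOutside E a b)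
    (hF : DRing.VanishesOutside F c d) :
    DRing.VanishesOutside (CochainComplex.mappingCone f) (min (a - 1) c) (max b d) := fun i hi =>
  IsZero.of_iso ((biprod_isZero_iff _ _).2 ⟨hE (i + 1) (by omega), hF i (by omega)⟩)
    (HomologicalComplex.homotopyCofiber.XIsoBiprod f i (i + 1) rfl)

lemma bfp_cone {E F : DRing.Cx R} (f : E ⟶ F) (hE : BFP E) (hF : BFP F) :
    BFP (CochainComplex.mappingCone f) := by
  obtain ⟨⟨a, b, hE⟩, hp⟩ := hE
  obtain ⟨⟨c, d, hF⟩, hq⟩ := hF
  exact ⟨⟨_, _, vanishes_cone f hE hF⟩, fun i =>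
    finite_projective_of_iso (HomologicalComplex.homotopyCofiber.XIsoBiprod f i (i + 1) rfl).symm
      (fp_biprod (hp (i + 1)) (hq i))⟩

lemma chiC_cone {E F : DRing.Cx R} (f : E ⟶ F) (hE : BFP E) (hF : BFP F) :
    chiC (CochainComplex.mappingCone f) = chiC F - chiC E := by
  have e : ∀ i, sgn i • cl ((CochainComplex.mappingCone f).X i) =
      sgn i • cl (F.X i) - sgn (i + 1) • cl (E.X (i + 1)) := fun i => by
    have e1 : cl ((CochainComplex.mappingCone f).X i) = cl (E.X (i + 1)) + cl (F.X i) :=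
      (KZeroLib.clSub_iso (P := FP R)
        (HomologicalComplex.homotopyCofiber.XIsoBiprod f i (i + 1) rfl)).symm.trans (cl_biprod (hE.2 _) (hF.2 _))
    rw [e1, sgn_succ, smul_add, neg_smul, sub_neg_eq_add, add_comm]
  have hu' : (Function.support fun i => sgn (i + 1) • cl (E.X (i + 1))).Finite :=
    (support_finite hE).preimage (f := fun i => i + 1) (fun a _ b _ h => add_right_cancel h)
  rw [chiC, finsum_congr e, finsum_sub_distrib (support_finite hF) hu']
  exact congrArg _ (finsum_shift fun i => sgn i • cl (E.X i))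

lemma chiC_eq_of_quasiIso {E F : DRing.Cx R} (f : E ⟶ F) (hE : BFP E) (hF : BFP F)
    (hf : QuasiIso f) : chiC E = chiC F := by
  have hacyc : (CochainComplex.mappingCone f).Acyclic := by
    have hT : DerivedCategory.Q.mapTriangle.obj (CochainComplex.mappingCone.triangle f) ∈
        distTriang (Dual.D R) :=
      (DerivedCategory.mem_distTriang_iff _).2 ⟨E, F, f, ⟨Iso.refl _⟩⟩
    haveI : IsIso (DerivedCategory.Q.map f) := (DerivedCategory.isIso_Q_map_iff_quasiIso (ModuleCat.{u} R) f).2 hf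
    have hz : IsZero (DerivedCategory.Q.obj (CochainComplex.mappingCone f)) :=
      (Triangle.isZero₃_iff_isIso₁ _ hT).2 this
    intro i
    rw [HomologicalComplex.exactAt_iff_isZero_homology]
    exact (Functor.map_isZero (DerivedCategory.homologyFunctor (ModuleCat.{u} R) i) hz).of_iso
      ((DerivedCategory.homologyFunctorFactors (ModuleCat.{u} R) i).app _).symm
  have h := chiC_acyclic (bfp_cone f hE hF) hacyc
  rw [chiC_cone f hE hF, sub_eq_zero] at h
  exact h.symm

lemma chiC_eq_of_iso {E F : DRing.Cx R} (hE : BFP E) (hF : BFP F) (α : DRing.toD E ≅ DRing.toD F) :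
    chiC E = chiC F := by
  obtain ⟨a, b, hv⟩ := hE.1
  haveI := DRingLib.isKProjective_of_outside hv fun i => (hE.2 i).2
  obtain ⟨f, hf⟩ := DRingLib.exists_Q_map α.hom
  refine chiC_eq_of_quasiIso f hE hF ((DerivedCategory.isIso_Q_map_iff_quasiIso (ModuleCat.{u} R) f).1 ?_)
  rw [hf]
  infer_instance

open Classical in
/-- The Euler characteristic of a perfect object. -/
noncomputable def chiD (K : Dual.D R) : KZero.K0sub (FP R) :=
  if h : DRing.IsPerfect R K then chiC h.choose else 0

lemma chiD_eq {K : Dual.D R} {E : DRing.Cx R} (hE : BFP E) (e : DRing.toD E ≅ K) : chiD K = chiC E := by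
  obtain ⟨⟨a, b, hv⟩, hp⟩ := id hE
  have h : DRing.IsPerfect R K := ⟨E, a, b, hv, hp, ⟨e⟩⟩
  rw [chiD, dif_pos h]
  obtain ⟨a', b', hv', hp', ⟨e'⟩⟩ := h.choose_spec
  exact chiC_eq_of_iso ⟨⟨a', b', hv'⟩, hp'⟩ hE (e' ≪≫ e.symm)

lemma exists_bfp {K : Dual.D R} (h : DRing.IsPerfect R K) :
    ∃ E, BFP E ∧ Nonempty (DRing.toD E ≅ K) := by
  obtain ⟨E, a, b, hv, hp, e⟩ := h
  exact ⟨E, ⟨⟨a, b, hv⟩, hp⟩, e⟩

lemma chiD_triangle (T : Triangle (Dual.D R)) (hT : T ∈ distTriang (Dual.D R))
    (h₁ : DRing.IsPerfect R T.obj₁) (h₂ : DRing.IsPerfect R T.obj₂) :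
    chiD T.obj₂ = chiD T.obj₁ + chiD T.obj₃ := by
  obtain ⟨E₁, hE₁, ⟨e₁⟩⟩ := exists_bfp h₁
  obtain ⟨E₂, hE₂, ⟨e₂⟩⟩ := exists_bfp h₂
  obtain ⟨a, b, hv⟩ := hE₁.1
  haveI := DRingLib.isKProjective_of_outside hv fun i => (hE₁.2 i).2
  obtain ⟨f, hf⟩ := DRingLib.exists_Q_map (e₁.hom ≫ T.mor₁ ≫ e₂.inv)
  have hT' : DerivedCategory.Q.mapTriangle.obj (CochainComplex.mappingCone.triangle f) ∈
      distTriang (Dual.D R) :=
    (DerivedCategory.mem_distTriang_iff _).2 ⟨E₁, E₂, f, ⟨Iso.refl _⟩⟩
  have comm : DerivedCategory.Q.map f ≫ e₂.hom = e₁.hom ≫ T.mor₁ := by simp [hf]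
  let e := isoTriangleOfIso₁₂ _ T hT' hT e₁ e₂ comm
  rw [chiD_eq hE₁ e₁, chiD_eq hE₂ e₂, chiD_eq (K := T.obj₃) (bfp_cone f hE₁ hE₂) (Triangle.π₃.mapIso e),
    chiC_cone f hE₁ hE₂]
  abel

end Groth.Agent.CohDer1.KPerf
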