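import Groth.Agent.CohDer1.KPerf.Chi
import Groth.Agent.DRingLib.PCRegular

/-! `K₀` of a ring is `K₀` of perfect complexes. -/

set_option autoImplicit false
set_option backward.isDefEq.respectTransparency false
set_option backward.defeqAttrib.useBackward true
set_option linter.style.haveILetI false

universe u

open CategoryTheory CategoryTheory.Limits CategoryTheory.Pretriangulated
open scoped ZeroObject

attribute [local instance] HasDerivedCategory.standard

namespace Groth.Agent.CohDer1.KPerf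

open Groth.Agent.KZeroLib (sgn sgn_succ)
open Groth.Agent.DCat
open Groth.Agent.DRingLib (perfect_of_iso perfect_shift perfect_of_isZero perfect_inD_projective singleIso)

variable {R : Type u} [CommRing R]

/-- Perfect objects. -/
abbrev PF (R : Type u) [CommRing R] : ObjectProperty (Dual.D R) := fun K => DRing.IsPerfect R K

/-- The class of an object. -/
noncomputable abbrev tc (K : Dual.D R) : KZero.K0tr (PF R) := KZero.clTr (PF R) K

lemma tc_rel {T : Triangle (Dual.D R)} (hT : T ∈ distTriang (Dual.D R))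
    (h₁ : DRing.IsPerfect R T.obj₁) (h₂ : DRing.IsPerfect R T.obj₂) (h₃ : DRing.IsPerfect R T.obj₃) :
    tc T.obj₂ = tc T.obj₁ + tc T.obj₃ := by
  rw [tc, tc, tc, KZero.clTr, KZero.clTr, KZero.clTr, dif_pos h₁, dif_pos h₂, dif_pos h₃]
  erw [← QuotientAddGroup.mk_add, QuotientAddGroup.eq]
  refine AddSubgroup.neg_mem_iff (KZero.relTr (PF R)) |>.mp
    (AddSubgroup.subset_closure ⟨T, h₁, h₂, h₃, hT, ?_⟩)
  abel

lemma tc_isZero {W : Dual.D R} (hW : IsZero W) : tc W = 0 := by
  have hb := perfect_of_isZero hW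
  have hT : Triangle.mk (𝟙 W) (0 : W ⟶ W) (0 : W ⟶ W⟦(1 : ℤ)⟧) ∈ distTriang (Dual.D R) := by
    refine isomorphic_distinguished _ (contractible_distinguished W) _
      (Triangle.isoMk _ _ (Iso.refl _) (Iso.refl _) ?_ ?_ ?_ ?_)
    · exact hW.iso (isZero_zero _)
    · simp
    · exact (isZero_zero _).eq_of_tgt _ _
    · exact hW.eq_of_src _ _
  exact left_eq_add.1 (tc_rel hT hb hb hb)

lemma tc_iso {K L : Dual.D R} (e : K ≅ L) : tc L = tc K := by
  by_cases hK : DRing.IsPerfect R K
  · have hL := perfect_of_iso e hK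
    have hT : Triangle.mk e.hom (0 : L ⟶ 0) (0 : (0 : Dual.D R) ⟶ K⟦(1 : ℤ)⟧) ∈
        distTriang (Dual.D R) := by
      refine isomorphic_distinguished _ (contractible_distinguished K) _
        (Triangle.isoMk _ _ (Iso.refl _) e.symm (Iso.refl _) ?_ ?_ ?_) <;> simp
    have h := tc_rel hT hK hL (perfect_of_isZero (isZero_zero _))
    change tc L = tc K + tc 0 at h
    rw [h, tc_isZero (isZero_zero _), add_zero]
  · rw [tc, tc, KZero.clTr, KZero.clTr, dif_neg fun h => hK h,
      dif_neg fun h => hK (perfect_of_iso e.symm h)]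

lemma tc_shift_one {K : Dual.D R} (h : DRing.IsPerfect R K) : tc (K⟦(1 : ℤ)⟧) = - tc K := by
  have h' := tc_rel (contractible_distinguished₂ K) h (perfect_of_isZero (isZero_zero _)) (perfect_shift h 1)
  change tc 0 = tc K + tc (K⟦(1 : ℤ)⟧) at h'
  rw [tc_isZero (isZero_zero _)] at h'
  exact eq_neg_of_add_eq_zero_right h'.symm

lemma tc_shift {K : Dual.D R} (h : DRing.IsPerfect R K) : ∀ n : ℤ, tc (K⟦n⟧) = sgn n • tc K := by
  have step : ∀ n : ℤ, tc (K⟦n + 1⟧) = - tc (K⟦n⟧) := fun n => by
    rw [← tc_shift_one (perfect_shift h n)]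
    exact tc_iso ((shiftFunctorAdd' (Dual.D R) n 1 (n + 1) rfl).app K).symm
  intro n
  induction n with
  | zero =>
    rw [show sgn 0 = 1 by simp [sgn], one_smul]
    exact (tc_iso ((shiftFunctorZero (Dual.D R) ℤ).app K)).symm
  | succ k ih => rw [step, ih, sgn_succ, neg_smul]
  | pred k ih =>
    have h' := step (-(k : ℤ) - 1)
    rw [sub_add_cancel, ih] at h'
    have hs : sgn (-(k : ℤ)) = - sgn (-(k : ℤ) - 1) := by
      rw [← sgn_succ, sub_add_cancel]
    rw [hs, neg_smul, neg_inj] at h'
    exact h'.symm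

lemma perfect_single {X : ModuleCat.{u} R} (h : FP R X) : DRing.IsPerfect R (Dual.inD R X) := by
  haveI := h.1
  haveI := h.2
  exact perfect_inD_projective X

variable (R) in
/-- The map to `K₀` of perfect complexes. -/
noncomputable def toTr : KZero.K0sub (FP R) →+ KZero.K0tr (PF R) :=
  QuotientAddGroup.lift _ (FreeAbelianGroup.lift fun X : Subtype (FP R) => tc (Dual.inD R X.1)) (by
    refine (AddSubgroup.closure_le _).2 ?_
    rintro x ⟨S, h₁, h₂, h₃, hS, rfl⟩
    simp only [SetLike.mem_coe, AddMonoidHom.mem_ker, map_sub, FreeAbelianGroup.lift_apply_of]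
    have h : tc (Dual.inD R S.X₂) = tc (Dual.inD R S.X₁) + tc (Dual.inD R S.X₃) :=
      tc_rel hS.singleTriangle_distinguished (perfect_single h₁) (perfect_single h₂) (perfect_single h₃)
    rw [h]
    abel)

lemma toTr_cl {X : ModuleCat.{u} R} (h : FP R X) : toTr R (cl X) = tc (Dual.inD R X) := by
  rw [cl, KZero.clSub, dif_pos h]
  exact FreeAbelianGroup.lift_apply_of _ _

variable (R) in
/-- The Euler characteristic. -/
noncomputable def toSub : KZero.K0tr (PF R) →+ KZero.K0sub (FP R) :=
  QuotientAddGroup.lift _ (FreeAbelianGroup.lift fun K : Subtype (PF R) => chiD K.1) (by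
    refine (AddSubgroup.closure_le _).2 ?_
    rintro x ⟨T, h₁, h₂, h₃, hT, rfl⟩
    simp only [SetLike.mem_coe, AddMonoidHom.mem_ker, map_sub, FreeAbelianGroup.lift_apply_of]
    rw [chiD_triangle T hT h₁ h₂]
    abel)

lemma toSub_tc {K : Dual.D R} (h : DRing.IsPerfect R K) : toSub R (tc K) = chiD K := by
  rw [tc, KZero.clTr, dif_pos h]
  exact FreeAbelianGroup.lift_apply_of _ _

lemma chiC_single (n : ℤ) {X : ModuleCat.{u} R} :
    chiC ((HomologicalComplex.single (ModuleCat.{u} R) (ComplexShape.up ℤ) n).obj X) = sgn n • cl X := by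
  rw [chiC, finsum_eq_single _ n fun i hi => by
    rw [show cl (((HomologicalComplex.single (ModuleCat.{u} R) (ComplexShape.up ℤ) n).obj X).X i) = 0 from
      KZeroLib.clSub_isZero (HomologicalComplex.isZero_single_obj_X _ _ _ _ hi), smul_zero]]
  exact congrArg _ (KZeroLib.clSub_iso (P := FP R) (HomologicalComplex.singleObjXSelf (ComplexShape.up ℤ) n X)).symm

lemma tc_Q_eq : ∀ (E : DRing.Cx R), BFP E → tc (DRing.toD E) = toTr R (chiC E) := by
  intro E hE
  obtain ⟨⟨a, b, hv⟩, hp⟩ := id hE
  refine bounded_induction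
    (fun E : DRing.Cx R => BFP E → tc (DRing.toD E) = toTr R (chiC E)) (fun _ => True)
    (fun K hK _ => ?_) (fun _ _ => trivial) (fun _ _ _ _ => trivial) (fun n X _ hX => ?_)
    (fun S hS h₁ h₃ hX => ?_) a (b + 1 - a).toNat E (fun n hn => hv n (Or.inl hn))
    (fun n hn => hv n (Or.inr (by omega))) (fun _ => trivial) hE
  · have hz : ∀ i, IsZero (K.X i) := fun i => (HomologicalComplex.eval _ _ i).map_isZero hK
    rw [tc_isZero (DerivedCategory.Q.map_isZero hK), chiC,
      finsum_congr (g := fun _ => (0 : KZero.K0sub (FP R))) fun i => by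
        rw [show cl (K.X i) = 0 from KZeroLib.clSub_isZero (hz i), smul_zero],
      finsum_zero, map_zero]
  · have hX' : FP R X :=
      finite_projective_of_iso (HomologicalComplex.singleObjXSelf (ComplexShape.up ℤ) n X) (hX.2 n)
    rw [chiC_single, map_zsmul, toTr_cl hX', tc_iso (singleIso n X), tc_shift (perfect_single hX'),
      show sgn (-n) = sgn n by simp [sgn]]
  · obtain ⟨⟨a, b, hv⟩, hp⟩ := hX
    let r₁ : ∀ i, Retract (S.X₁.X i) (S.X₂.X i) := fun i => ⟨S.f.f i, (hS i).some.r, (hS i).some.f_r⟩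
    let r₃ : ∀ i, Retract (S.X₃.X i) (S.X₂.X i) := fun i => ⟨(hS i).some.s, S.g.f i, (hS i).some.s_g⟩
    have hz : ∀ i, i < a ∨ b < i → ∀ {W : ModuleCat.{u} R}, Retract W (S.X₂.X i) → IsZero W :=
      fun i hi W r => (IsZero.iff_id_eq_zero _).2 (by
        rw [← r.retract, (hv i hi).eq_of_tgt r.i 0, zero_comp])
    have b₁ : BFP S.X₁ := ⟨⟨a, b, fun i hi => hz i hi (r₁ i)⟩, fun i => fp_retract (r₁ i) (hp i)⟩
    have b₃ : BFP S.X₃ := ⟨⟨a, b, fun i hi => hz i hi (r₃ i)⟩, fun i => fp_retract (r₃ i) (hp i)⟩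
    have b₂ : BFP S.X₂ := ⟨⟨a, b, hv⟩, hp⟩
    have hse := HomologicalComplex.shortExact_of_degreewise_shortExact _
      fun k => ((hS k).some).shortExact
    have hperf : ∀ {F : DRing.Cx R}, BFP F → DRing.IsPerfect R (DRing.toD F) := fun {F} hF => by
      obtain ⟨⟨c, d, h⟩, h'⟩ := hF
      exact ⟨F, c, d, h, h', ⟨Iso.refl _⟩⟩
    have hT : tc (DRing.toD S.X₂) = tc (DRing.toD S.X₁) + tc (DRing.toD S.X₃) :=
      tc_rel (DerivedCategory.triangleOfSES_distinguished hse) (hperf b₁) (hperf b₂) (hperf b₃)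
    have hc : chiC S.X₂ = chiC S.X₁ + chiC S.X₃ := by
      rw [chiC, chiC, chiC, ← finsum_add_distrib (support_finite b₁) (support_finite b₃)]
      refine finsum_congr fun i => ?_
      rw [← smul_add]
      exact congrArg _ (Resolution28.clSub_rel ((hS i).some.shortExact) (b₁.2 i) (b₂.2 i) (b₃.2 i))
    rw [hT, hc, map_add, h₁ b₁, h₃ b₃]

variable (R) in
/-- The isomorphism. -/
noncomputable def equiv : KZero.K0sub (FP R) ≃+ KZero.K0tr (PF R) :=
  AddMonoidHom.toAddEquiv (toTr R) (toSub R)
    (by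
      refine AddMonoidHom.ext fun x => ?_
      obtain ⟨z, rfl⟩ := QuotientAddGroup.mk_surjective x
      induction z using FreeAbelianGroup.induction_on with
      | zero => simp
      | of X =>
        have hX : (QuotientAddGroup.mk (FreeAbelianGroup.of X) : KZero.K0sub (FP R)) = cl X.1 := by
          rw [cl, KZero.clSub, dif_pos X.2]
        rw [hX, AddMonoidHom.comp_apply, AddMonoidHom.id_apply, toTr_cl X.2, toSub_tc (perfect_single X.2),
          chiD_eq (E := (HomologicalComplex.single (ModuleCat.{u} R) (ComplexShape.up ℤ) 0).obj X.1) ?_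
            ((DerivedCategory.singleFunctorIsoCompQ (ModuleCat.{u} R) 0).app _).symm,
          chiC_single, show sgn 0 = 1 by simp [sgn], one_smul]
        refine ⟨⟨0, 0, fun i hi => HomologicalComplex.isZero_single_obj_X _ _ _ _ (by omega)⟩, fun i => ?_⟩
        by_cases hi : i = 0
        · subst hi
          exact finite_projective_of_iso (HomologicalComplex.singleObjXSelf (ComplexShape.up ℤ) 0 _).symm X.2
        · exact fp_zero (HomologicalComplex.isZero_single_obj_X _ _ _ _ hi)
      | neg X h => simp only [QuotientAddGroup.mk_neg, map_neg, h]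
      | add a b ha hb => simp only [QuotientAddGroup.mk_add, map_add, ha, hb])
    (by
      refine AddMonoidHom.ext fun x => ?_
      obtain ⟨z, rfl⟩ := QuotientAddGroup.mk_surjective x
      induction z using FreeAbelianGroup.induction_on with
      | zero => simp
      | of K =>
        have hK : (QuotientAddGroup.mk (FreeAbelianGroup.of K) : KZero.K0tr (PF R)) = tc K.1 := by
          rw [tc, KZero.clTr, dif_pos K.2]
        obtain ⟨E, hE, ⟨e⟩⟩ := exists_bfp K.2
        rw [hK, AddMonoidHom.comp_apply, AddMonoidHom.id_apply, toSub_tc K.2, chiD_eq hE e,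
          ← tc_Q_eq E hE]
        exact (tc_iso e).symm
      | neg X h => simp only [QuotientAddGroup.mk_neg, map_neg, h]
      | add a b ha hb => simp only [QuotientAddGroup.mk_add, map_add, ha, hb])

lemma equiv_cl {X : ModuleCat.{u} R} (h : FP R X) : equiv R (cl X) = tc (Dual.inD R X) := toTr_cl h

theorem exists_equiv :
    ∃ φ : KZero.K0sub (FP R) ≃+ KZero.K0tr (PF R),
      (∀ (M : Type u) [AddCommGroup M] [Module R M], Module.Finite R M → Module.Projective R M →
        φ (KZero.clSub (FP R) (ModuleCat.of R M)) = KZero.clTr (PF R) (Dual.inD R M)) ∧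
      ∀ (E : DRing.Cx R) (a b : ℤ), DRing.VanishesOutside E a b → DRing.TermwiseFiniteProjective E →
        φ.symm (KZero.clTr (PF R) (DRing.toD E)) =
          (Finset.Icc a b).sum (fun i => (i.negOnePow : ℤ) • KZero.clSub (FP R) (E.X i)) := by
  refine ⟨equiv R, fun M _ _ h h' => equiv_cl (X := ModuleCat.of R M) ⟨h, h'⟩, fun E a b hv hp => ?_⟩
  rw [AddEquiv.symm_apply_eq]
  refine (tc_Q_eq E ⟨⟨a, b, hv⟩, hp⟩).trans ?_
  rw [chiC_eq_sum hv]
  rfl

end Groth.Agent.CohDer1.KPerf
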