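import Groth.Prelude.Def_KZero
import Groth.Prelude.Def_SGA6
import Mathlib.CategoryTheory.Triangulated.Functor

/-! `K₀` along fully faithful triangulated functors. -/

set_option autoImplicit false
set_option backward.isDefEq.respectTransparency false
set_option linter.style.haveILetI false

universe v' u' v u

open CategoryTheory CategoryTheory.Limits CategoryTheory.Pretriangulated
open scoped ZeroObject

namespace Groth.Agent.CohDer1.KPerf

section

variable {D : Type u} [Category.{v} D] [Preadditive D] [HasZeroObject D] [HasShift D ℤ]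
  [∀ n : ℤ, (shiftFunctor D n).Additive] [Pretriangulated D] {P : ObjectProperty D}

lemma clTr_rel' {T : Triangle D} (hT : T ∈ distTriang D)
    (h₁ : P T.obj₁) (h₂ : P T.obj₂) (h₃ : P T.obj₃) :
    KZero.clTr P T.obj₂ = KZero.clTr P T.obj₁ + KZero.clTr P T.obj₃ := by
  rw [KZero.clTr, KZero.clTr, KZero.clTr, dif_pos h₁, dif_pos h₂, dif_pos h₃]
  erw [← QuotientAddGroup.mk_add, QuotientAddGroup.eq]
  refine AddSubgroup.neg_mem_iff (KZero.relTr P) |>.mp
    (AddSubgroup.subset_closure ⟨T, h₁, h₂, h₃, hT, ?_⟩)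
  abel

lemma clTr_iso' {K L : D} (e : K ≅ L) (hK : P K) (hL : P L) (h0 : P 0) :
    KZero.clTr P L = KZero.clTr P K := by
  have hz : KZero.clTr P (0 : D) = 0 := by
    have hT : Triangle.mk (𝟙 (0 : D)) (0 : (0 : D) ⟶ 0) (0 : (0 : D) ⟶ (0 : D)⟦(1 : ℤ)⟧) ∈ distTriang D :=
      contractible_distinguished 0
    exact left_eq_add.1 (clTr_rel' hT h0 h0 h0)
  have hT : Triangle.mk e.hom (0 : L ⟶ 0) (0 : (0 : D) ⟶ K⟦(1 : ℤ)⟧) ∈ distTriang D := by
    refine isomorphic_distinguished _ (contractible_distinguished K) _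
      (Triangle.isoMk _ _ (Iso.refl _) e.symm (Iso.refl _) ?_ ?_ ?_) <;> simp <;> rfl
  have h := clTr_rel' hT hK hL h0
  change KZero.clTr P L = KZero.clTr P K + KZero.clTr P 0 at h
  rw [h, hz, add_zero]

end

variable {C : Type u} [Category.{v} C] [Preadditive C] [HasZeroObject C] [HasShift C ℤ]
  [∀ n : ℤ, (shiftFunctor C n).Additive] [Pretriangulated C]
  {D : Type u'} [Category.{v'} D] [Preadditive D] [HasZeroObject D] [HasShift D ℤ]
  [∀ n : ℤ, (shiftFunctor D n).Additive] [Pretriangulated D]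
  {P : ObjectProperty C} {Q : ObjectProperty D}
  [P.IsClosedUnderIsomorphisms] [Q.IsClosedUnderIsomorphisms]
  (F : C ⥤ D) [F.CommShift ℤ] [F.IsTriangulated] [F.Full] [F.Faithful]

theorem exists_transfer (h : ∀ X, P X → Q (F.obj X)) (hs : ∀ Y, Q Y → ∃ X, P X ∧ Nonempty (F.obj X ≅ Y))
    (h0 : P 0) :
    ∃ φ : KZero.K0tr P ≃+ KZero.K0tr Q, ∀ X, P X → ∀ Y, (F.obj X ≅ Y) →
      φ (KZero.clTr P X) = KZero.clTr Q Y := by
  classical
  have h0' : Q 0 := Q.prop_of_iso ((F.map_isZero (isZero_zero C)).isoZero) (h 0 h0)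
  let f := SGA6.mapTr F P Q h
  have hf : ∀ X, P X → f (KZero.clTr P X) = KZero.clTr Q (F.obj X) := fun X hX => by
    rw [KZero.clTr, KZero.clTr, dif_pos hX, dif_pos (h X hX)]
    rfl
  have uniq : ∀ {X X' : C}, P X → (F.obj X ≅ F.obj X') → KZero.clTr P X' = KZero.clTr P X := fun hX e =>
    clTr_iso' (F.preimageIso e) hX (P.prop_of_iso (F.preimageIso e) hX) h0
  let c : Subtype Q → KZero.K0tr P := fun Y => KZero.clTr P (hs Y.1 Y.2).choose
  have hc : ∀ (Y : Subtype Q) (X : C), P X → (F.obj X ≅ Y.1) → c Y = KZero.clTr P X := fun Y X hX e =>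
    uniq hX (e ≪≫ (hs Y.1 Y.2).choose_spec.2.some.symm)
  let g : KZero.K0tr Q →+ KZero.K0tr P := QuotientAddGroup.lift _ (FreeAbelianGroup.lift c) (by
    refine (AddSubgroup.closure_le _).2 ?_
    rintro x ⟨T, h₁, h₂, h₃, hT, rfl⟩
    simp only [SetLike.mem_coe, AddMonoidHom.mem_ker, map_sub, FreeAbelianGroup.lift_apply_of]
    obtain ⟨X₁, p₁, ⟨e₁⟩⟩ := hs _ h₁
    obtain ⟨X₂, p₂, ⟨e₂⟩⟩ := hs _ h₂
    obtain ⟨X₃, p₃, ⟨e₃⟩⟩ := hs _ h₃
    obtain ⟨Z, a, b, hZ⟩ := distinguished_cocone_triangle (F.preimage (e₁.hom ≫ T.mor₁ ≫ e₂.inv))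
    have comm : F.map (F.preimage (e₁.hom ≫ T.mor₁ ≫ e₂.inv)) ≫ e₂.hom = e₁.hom ≫ T.mor₁ := by
      rw [F.map_preimage, Category.assoc, Category.assoc, Iso.inv_hom_id, Category.comp_id]
    let e := isoTriangleOfIso₁₂ _ T (F.map_distinguished _ hZ) hT e₁ e₂ comm
    let eZ : F.obj Z ≅ T.obj₃ := Triangle.π₃.mapIso e
    have pZ : P Z := P.prop_of_iso (F.preimageIso (eZ ≪≫ e₃.symm)).symm p₃
    have hr := clTr_rel' hZ p₁ p₂ pZ
    change KZero.clTr P X₂ = KZero.clTr P X₁ + KZero.clTr P Z at hr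
    rw [hc ⟨_, h₁⟩ X₁ p₁ e₁, hc ⟨_, h₂⟩ X₂ p₂ e₂, hc ⟨_, h₃⟩ Z pZ eZ, hr]
    abel)
  have hg : ∀ Y (hY : Q Y), g (KZero.clTr Q Y) = c ⟨Y, hY⟩ := fun Y hY => by
    rw [KZero.clTr, dif_pos hY]
    exact FreeAbelianGroup.lift_apply_of _ _
  refine ⟨AddMonoidHom.toAddEquiv f g ?_ ?_, fun X hX Y e => ?_⟩
  · refine AddMonoidHom.ext fun x => ?_
    obtain ⟨z, rfl⟩ := QuotientAddGroup.mk_surjective x
    induction z using FreeAbelianGroup.induction_on with
    | zero => simp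
    | of X =>
      have hX : (QuotientAddGroup.mk (FreeAbelianGroup.of X) : KZero.K0tr P) = KZero.clTr P X.1 := by
        rw [KZero.clTr, dif_pos X.2]
      rw [hX, AddMonoidHom.comp_apply, AddMonoidHom.id_apply, hf _ X.2, hg _ (h _ X.2),
        hc ⟨_, h _ X.2⟩ X.1 X.2 (Iso.refl _)]
    | neg X h => simp only [QuotientAddGroup.mk_neg, map_neg, h]
    | add a b ha hb => simp only [QuotientAddGroup.mk_add, map_add, ha, hb]
  · refine AddMonoidHom.ext fun x => ?_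
    obtain ⟨z, rfl⟩ := QuotientAddGroup.mk_surjective x
    induction z using FreeAbelianGroup.induction_on with
    | zero => simp
    | of Y =>
      have hY : (QuotientAddGroup.mk (FreeAbelianGroup.of Y) : KZero.K0tr Q) = KZero.clTr Q Y.1 := by
        rw [KZero.clTr, dif_pos Y.2]
      obtain ⟨X, hX, ⟨e⟩⟩ := hs Y.1 Y.2
      rw [hY, AddMonoidHom.comp_apply, AddMonoidHom.id_apply, hg _ Y.2, hc ⟨_, Y.2⟩ X hX e, hf _ hX]
      exact (clTr_iso' e (h _ hX) Y.2 h0').symm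
    | neg X h => simp only [QuotientAddGroup.mk_neg, map_neg, h]
    | add a b ha hb => simp only [QuotientAddGroup.mk_add, map_add, ha, hb]
  · show f (KZero.clTr P X) = _
    rw [hf _ hX]
    exact (clTr_iso' e (h _ hX) (Q.prop_of_iso e (h _ hX)) h0').symm

end Groth.Agent.CohDer1.KPerf
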