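import Groth.Agent.CohDer1.KPerf.Main
import Groth.Agent.CohDer1.KPerf.Transfer
import Groth.Agent.DQCoh.PerfectAffine
import Groth.Agent.Dual22Lib.PerfLift
import Groth.Agent.AffSchLib.TildeExact

/-! `K₀` of an affine scheme. -/

set_option autoImplicit false
set_option backward.isDefEq.respectTransparency false
set_option backward.defeqAttrib.useBackward true
set_option backward.isDefEq.respectTransparency.types false
set_option synthInstance.maxHeartbeats 100000
set_option linter.style.haveILetI false

universe u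

open CategoryTheory CategoryTheory.Limits CategoryTheory.Pretriangulated AlgebraicGeometry
open scoped ZeroObject

attribute [local instance] HasDerivedCategory.standard

namespace Groth.Agent.CohDer1.KPerf

theorem exists_equiv_spec' (R : CommRingCat.{u}) :
    ∃ φ : KZero.K0sub (FP R) ≃+
        KZero.K0tr (fun K : DCoh.D (Spec R) => DCoh.IsPerfect K),
      ∀ (M : ModuleCat.{u} R), Module.Finite R M → Module.Projective R M →
        φ (KZero.clSub (FP R) M) =
          KZero.clTr (fun K : DCoh.D (Spec R) => DCoh.IsPerfect K) (DCoh.inD (Spec R) (tilde M)) := by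
  haveI : PreservesFiniteLimits (tilde.functor R) := AffSchLib.preservesFiniteLimits_tilde (R := R)
  haveI := DQCoh.preservesFiniteColimits_tilde R
  let T := DCoh.tildeD R
  obtain ⟨hfull, hfaith, hess⟩ := DQCoh.tildeD_main R
  haveI : T.Full := hfull
  haveI : T.Faithful := hfaith
  let Q : ObjectProperty (DCoh.D (Spec R)) := fun K => DCoh.IsPerfect K
  haveI : Q.IsClosedUnderIsomorphisms := ⟨fun e h => DCat.PCTriangle.perfect_iso e h⟩
  haveI : (PF R).IsClosedUnderIsomorphisms := ⟨fun e h => DRingLib.perfect_of_iso e h⟩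
  obtain ⟨ψ, hψ⟩ := exists_transfer (P := PF R) (Q := Q) T
    (fun X hX => DQCoh.isPerfect_tildeD hX)
    (fun Y hY => by
      obtain ⟨M, ⟨e⟩⟩ := (hess Y).1 (Dual22Lib.PerfLift.isQCohD_perfect hY)
      exact ⟨M, DQCoh.perfect_of_isPerfect_tildeD (DCat.PCTriangle.perfect_iso e.symm hY), ⟨e⟩⟩)
    (DRingLib.perfect_of_isZero (isZero_zero _))
  refine ⟨(equiv R).trans ψ, fun M h h' => ?_⟩
  show ψ (equiv R (cl M)) = _
  rw [equiv_cl ⟨h, h'⟩]
  exact hψ _ (perfect_single ⟨h, h'⟩) _
    (((tilde.functor R).mapDerivedCategorySingleFunctor 0).app M)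

theorem exists_equiv_spec (A : Type u) [CommRing A] :
    ∃ φ : KZero.K0sub (FP A) ≃+
        KZero.K0tr (fun K : DCoh.D (Spec (CommRingCat.of A)) => DCoh.IsPerfect K),
      ∀ (M : ModuleCat.{u} A), Module.Finite A M → Module.Projective A M →
        φ (KZero.clSub (FP A) M) =
          KZero.clTr (fun K : DCoh.D (Spec (CommRingCat.of A)) => DCoh.IsPerfect K)
            (DCoh.inD (Spec (CommRingCat.of A)) (tilde M)) :=
  exists_equiv_spec' (CommRingCat.of A)

end Groth.Agent.CohDer1.KPerf
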